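import Groth.Agent.VerticalTriv.Main
import Groth.Agent.VarietyBC.NormalBC
import Groth.Agent.VarietyBC.Reduced
import Groth.Agent.AbvarAmple.GeomInt
import Groth.Agent.Abvar.PicCalc
import Groth.Agent.S7819
import Mathlib.AlgebraicGeometry.AlgClosed.Basic

/-!
# Invertible modules on a product of a rational and a normal variety
-/

set_option autoImplicit false
set_option linter.style.haveILetI false
universe u

open CategoryTheory CategoryTheory.Limits AlgebraicGeometry TopologicalSpace TensorProduct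

noncomputable section

namespace Groth.VerticalTriv

open Groth.PicAux

/-- An invertible module on a scheme with one point is trivial. -/
theorem nonempty_iso_of_subsingleton {P : Scheme.{u}} [Subsingleton P] [Nonempty P] {L : P.Modules}
    (hL : PicF.IsInvertible L) : Nonempty (L ≅ Coh.structureModule P) := by
  obtain ⟨W, ε, -, hW, hε⟩ := exists_gen_cover hL
  let x : P := Classical.arbitrary P
  have hx : (W x : P.Opens) = ⊤ := top_unique fun y _ => Subsingleton.elim x y ▸ hW x
  exact nonempty_iso_structure_iff.2 ⟨_, (hε x).res (hx.ge : (⊤ : P.Opens) ≤ W x)⟩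

variable {k : Type u} [Field k]

/-- A product of normal integral schemes over a perfect field is normal. -/
theorem isNormalScheme_pullback [PerfectField k] {X Y : Scheme.{u}} (f : X ⟶ Spec (CommRingCat.of k))
    (g : Y ⟶ Spec (CommRingCat.of k)) [IsIntegral X] [IsIntegral Y] (hX : Pi1.IsNormalScheme X)
    (hY : Pi1.IsNormalScheme Y) : Pi1.IsNormalScheme (pullback f g) := by
  letI : X.Over (Spec (CommRingCat.of k)) := ⟨f⟩
  letI : Y.Over (Spec (CommRingCat.of k)) := ⟨g⟩
  intro z
  obtain ⟨A, _, _, m, hm, hmo, hx⟩ := VarietyBC.NormalBC.exists_chart (k := k)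
    (pullback.fst (X ↘ Spec (CommRingCat.of k)) (Y ↘ Spec (CommRingCat.of k)) z)
  obtain ⟨B, _, _, m', hm', hmo', hy⟩ := VarietyBC.NormalBC.exists_chart (k := k)
    (pullback.snd (X ↘ Spec (CommRingCat.of k)) (Y ↘ Spec (CommRingCat.of k)) z)
  haveI := hmo
  haveI := hmo'
  haveI := VarietyBC.NormalBC.isOpenImmersion_prodChart hm hm'
  obtain ⟨P, rfl⟩ : z ∈ Set.range (VarietyBC.NormalBC.prodChart hm hm') := by
    rw [VarietyBC.NormalBC.range_prodChart]; exact ⟨hx, hy⟩
  have key : ∀ {W : Scheme.{u}} [IsIntegral W], Pi1.IsNormalScheme W → ∀ {C : Type u} [CommRing C]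
      (j : Spec (CommRingCat.of C) ⟶ W) [IsOpenImmersion j], Nonempty (Spec (CommRingCat.of C)) →
      IsDomain C ∧ IsIntegrallyClosed C := by
    intro W _ hW C _ j _ hne
    have hC := VarietyBC.NormalBC.isNormalRing_of_chart hW j
    have := isIntegral_of_isOpenImmersion j
    have : IsDomain C := (affine_isIntegral_iff (CommRingCat.of C)).1 this
    exact ⟨this, IsIntegrallyClosed.of_localization_maximal fun q _ hq => (hC q).2⟩
  obtain ⟨_, _⟩ := key hX m ⟨hx.choose⟩
  obtain ⟨_, _⟩ := key hY m' ⟨hy.choose⟩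
  haveI := VarietyBC.isGeometricallyReduced_of_perfectField (k := k) (FractionRing A)
  haveI := VarietyBC.isGeometricallyReduced_of_perfectField (k := k) (FractionRing B)
  exact VarietyBC.NormalBC.isNormal_at_of_chart (Ega4b.isNormalRing_tensor_of_separable k A B)
    (VarietyBC.NormalBC.prodChart hm hm') P

/-- A rational point in a nonempty open subset. -/
theorem exists_point [IsAlgClosed k] {X : Scheme.{u}} (f : X ⟶ Spec (CommRingCat.of k))
    [LocallyOfFiniteType f] (U : X.Opens) (hU : (U : Set X).Nonempty) :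
    ∃ x : Spec (CommRingCat.of k) ⟶ (U : Scheme.{u}), x ≫ U.ι ≫ f = 𝟙 _ := by
  have := LocallyOfFiniteType.jacobsonSpace (U.ι ≫ f)
  obtain ⟨⟨a, ha⟩⟩ : Nonempty (U : Set X) := hU.to_subtype
  obtain ⟨p, -, hp⟩ := nonempty_inter_closedPoints (Z := (Set.univ : Set (U : Scheme.{u})))
    ⟨⟨a, ha⟩, trivial⟩ isOpen_univ.isLocallyClosed
  exact ⟨pointOfClosedPoint (U.ι ≫ f) p hp, pointOfClosedPoint_comp _ _ _⟩

/-- An invertible module on the product of a rational normal variety and a normal variety, trivial on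
two axes, is trivial. -/
theorem trivial_of_axes [IsAlgClosed k] {X Y : Scheme.{u}} (f : X ⟶ Spec (CommRingCat.of k))
    (g : Y ⟶ Spec (CommRingCat.of k)) [IsIntegral X] [IsSeparated f] [LocallyOfFiniteType f] [QuasiCompact f]
    [IsIntegral Y] [IsSeparated g] [LocallyOfFiniteType g] [QuasiCompact g]
    (hX : Pi1.IsNormalScheme X) (hY : Pi1.IsNormalScheme Y) {n : ℕ} (U : X.Opens)
    (V : (𝔸(ULift.{u} (Fin n); Spec (CommRingCat.of k))).Opens) (e : (U : Scheme.{u}) ≅ (V : Scheme.{u}))
    (he : e.hom ≫ V.ι ≫ (𝔸(ULift.{u} (Fin n); Spec (CommRingCat.of k)) ↘ Spec (CommRingCat.of k)) = U.ι ≫ f)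
    (hU : (U : Set X).Nonempty) (x : Spec (CommRingCat.of k) ⟶ (U : Scheme.{u})) (hx : x ≫ U.ι ≫ f = 𝟙 _)
    (σ : X ⟶ pullback f g) (hσ : σ ≫ pullback.fst f g = 𝟙 X)
    (τ : Y ⟶ pullback f g) (hτ₁ : τ ≫ pullback.fst f g = g ≫ x ≫ U.ι) (hτ₂ : τ ≫ pullback.snd f g = 𝟙 Y)
    (L : (pullback f g).Modules) (hL : PicF.IsInvertible L)
    (hσL : Nonempty ((Scheme.Modules.pullback σ).obj L ≅ Coh.structureModule X))
    (hτL : Nonempty ((Scheme.Modules.pullback τ).obj L ≅ Coh.structureModule Y)) :
    Nonempty (L ≅ Coh.structureModule (pullback f g)) := by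
  have hgi : GeometricallyIntegral g := AbvarAmple.geometricallyIntegral_of_isAlgClosed g
  have : IsLocallyNoetherian X := LocallyOfFiniteType.isLocallyNoetherian f
  have : IsLocallyNoetherian Y := LocallyOfFiniteType.isLocallyNoetherian g
  have : CompactSpace Y := QuasiCompact.compactSpace_of_compactSpace g
  have : IsNoetherian Y := {}
  have : IsLocallyNoetherian (pullback f g) := LocallyOfFiniteType.isLocallyNoetherian (pullback.fst f g)
  have : IsIntegral (pullback f g) := inferInstance
  -- triviality over the rational open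
  let str := 𝔸(ULift.{u} (Fin n); Spec (CommRingCat.of k)) ↘ Spec (CommRingCat.of k)
  let u : Spec (CommRingCat.of k) ⟶ (V : Scheme.{u}) := x ≫ e.hom
  have hu : u ≫ V.ι ≫ str = 𝟙 _ := by simp only [u, str, Category.assoc, he, hx]
  let j : pullback g (V.ι ≫ str) ⟶ pullback f g :=
    (pullbackSymmetry g (V.ι ≫ str)).hom ≫
      pullback.map (V.ι ≫ str) g f g (e.inv ≫ U.ι) (𝟙 Y) (𝟙 _)
        (by rw [Category.comp_id, Category.assoc, ← he, Iso.inv_hom_id_assoc])
        (by rw [Category.comp_id, Category.id_comp])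
  have hrange : j.opensRange = pullback.fst f g ⁻¹ᵁ U := by
    apply Opens.ext
    show Set.range j = pullback.fst f g ⁻¹' (U : Set X)
    rw [Scheme.Hom.comp_base, TopCat.coe_comp,
      Function.Surjective.range_comp (pullbackSymmetry g (V.ι ≫ str)).hom.surjective, Scheme.Pullback.range_map]
    rw [Scheme.Hom.comp_base, TopCat.coe_comp, Function.Surjective.range_comp e.inv.surjective,
      Scheme.Opens.range_ι]
    simp
  obtain ⟨c, ⟨hc, hcM⟩, huniq⟩ := Groth.Agent.S7819.result (Spec (CommRingCat.of k)) n V u hu g hY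
    (PicF.cl ((Scheme.Modules.pullback j).obj L)) ⟨_, rfl, PicLoc.isInvertible_pullback j hL⟩
  let s : Y ⟶ pullback g (V.ι ≫ str) := pullback.lift (𝟙 Y) (g ≫ u) (by
    rw [Category.assoc, hu, Category.comp_id, Category.id_comp])
  have hsj : s ≫ j = τ := by
    apply pullback.hom_ext
    · rw [hτ₁]
      simp only [j, s, Category.assoc, pullback.map, pullback.lift_fst, pullbackSymmetry_hom_comp_fst_assoc,
        pullback.lift_snd_assoc]
      simp only [u, Category.assoc, Iso.hom_inv_id_assoc]
    · rw [hτ₂]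
      simp only [j, s, Category.assoc, pullback.map, pullback.lift_snd, pullbackSymmetry_hom_comp_snd,
        pullback.lift_fst, Category.comp_id]
  have hc1 : c = PicF.cl (Coh.structureModule Y) := by
    have h1 := congrArg (PicF.pullCl s) hcM
    rw [← PicLoc.pullCl_comp, pullback.lift_fst, PicLoc.pullCl_id] at h1
    rw [h1]
    show PicF.pullCl s (PicF.pullCl j (PicF.cl L)) = _
    rw [← PicLoc.pullCl_comp, hsj]
    exact (PicGrp.cl_eq_cl_iff _ _).2 hτL
  have hjL : Nonempty ((Scheme.Modules.pullback j).obj L ≅ Coh.structureModule _) := by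
    refine (PicGrp.cl_eq_cl_iff _ _).1 ?_
    rw [← hcM, hc1]
    exact congrArg Subtype.val (PicLoc.invCl_map_unitPicSet _)
  refine trivial_of_section (isNormalScheme_pullback f g hX hY) hX (pullback.fst f g) (fun _ => inferInstance)
    σ hσ U ((genericPoint_spec X).mem_open_set_iff U.isOpen |>.2 (by simpa using hU)) L hL ?_ hσL
  rw [← hrange, ← nonempty_restrict_iso_iff]
  let φ := j.isoOpensRange
  have hφ : φ.inv ≫ j = j.opensRange.ι := Scheme.Hom.isoOpensRange_inv_comp j
  obtain ⟨i⟩ := hjL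
  have h : PicF.cl ((Scheme.Modules.pullback j.opensRange.ι).obj L) = PicF.cl (Coh.structureModule _) := by
    rw [← hφ]
    show PicF.pullCl (φ.inv ≫ j) (PicF.cl L) = _
    rw [PicLoc.pullCl_comp]
    show PicF.pullCl φ.inv (PicF.cl ((Scheme.Modules.pullback j).obj L)) = _
    rw [(PicGrp.cl_eq_cl_iff _ _).2 ⟨i⟩]
    exact congrArg Subtype.val (PicLoc.invCl_map_unitPicSet _)
  exact ((PicGrp.cl_eq_cl_iff _ _).1 h).map fun w =>
    (Scheme.Modules.restrictFunctorIsoPullback j.opensRange.ι).app L ≪≫ w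

end Groth.VerticalTriv
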