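import Groth.Agent.RefRank.Algebra
import Mathlib.RingTheory.UniqueFactorizationDomain.Multiplicity

/-!
# Fractions which are units away from a prime element
-/

set_option autoImplicit false
universe u

namespace Groth.VerticalTriv

/-- In a normal Noetherian domain a fraction which is a unit at every height one prime not containing
the prime element `ϖ` is a power of `ϖ` times a unit. -/
theorem exists_pow_mul_unit {A : Type u} [CommRing A] [IsDomain A] [IsNoetherianRing A]
    [IsIntegrallyClosed A] {K : Type u} [Field K] [Algebra A K] [IsFractionRing A K]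
    {ϖ : A} (hϖ : Prime ϖ) {z : K} (hz : z ≠ 0)
    (h : ∀ q : Ideal A, q.IsPrime → q.height = 1 → ϖ ∉ q →
      ∃ s t : A, s ∉ q ∧ t ∉ q ∧ algebraMap A K s * z = algebraMap A K t) :
    ∃ (i j : ℕ) (u : Aˣ), algebraMap A K ϖ ^ i * z = algebraMap A K ϖ ^ j * algebraMap A K u := by
  obtain ⟨a, ⟨b, hb⟩, rfl⟩ := IsLocalization.exists_mk'_eq (nonZeroDivisors A) z
  have hb0 : b ≠ 0 := nonZeroDivisors.ne_zero hb
  have ha0 : a ≠ 0 := fun ha => hz (by rw [ha, IsLocalization.mk'_zero])
  obtain ⟨j, a', ha', rfl⟩ := WfDvdMonoid.max_power_factor ha0 hϖ.irreducible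
  obtain ⟨i, b', hb', rfl⟩ := WfDvdMonoid.max_power_factor hb0 hϖ.irreducible
  have hinj := IsFractionRing.injective A K
  set z := IsLocalization.mk' K (ϖ ^ j * a') ⟨ϖ ^ i * b', hb⟩
  have hspec : algebraMap A K (ϖ ^ i * b') * z = algebraMap A K (ϖ ^ j * a') :=
    IsLocalization.mk'_spec' K (ϖ ^ j * a') ⟨ϖ ^ i * b', hb⟩
  have key : ∀ q : Ideal A, q.IsPrime → q.height = 1 →
      (∃ s ∉ q, b' ∣ s * a') ∧ ∃ t ∉ q, a' ∣ t * b' := by
    intro q hq hq1
    by_cases hϖq : ϖ ∈ q
    · have hle : Ideal.span {ϖ} ≤ q := (Ideal.span_singleton_le_iff_mem q).2 hϖq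
      have hP : (Ideal.span {ϖ}).IsPrime := (Ideal.span_singleton_prime hϖ.ne_zero).2 hϖ
      have heq : Ideal.span {ϖ} = q := by
        by_contra hne
        have := hP
        have := hq
        have hlt := Ideal.height_strict_mono_of_isPrime_of_isPrime (lt_of_le_of_ne hle hne)
        rw [hq1, Order.lt_one_iff, Ideal.height_eq_zero_iff_eq_bot, Ideal.span_singleton_eq_bot] at hlt
        exact hϖ.ne_zero hlt
      refine ⟨⟨b', ?_, dvd_mul_right _ _⟩, a', ?_, dvd_mul_right _ _⟩ <;>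
        rw [← heq, Ideal.mem_span_singleton] <;> assumption
    · obtain ⟨s, t, hs, ht, hst⟩ := h q hq hq1 hϖq
      have e : s * (ϖ ^ j * a') = t * (ϖ ^ i * b') := by
        refine hinj ?_
        rw [map_mul (algebraMap A K) s, map_mul (algebraMap A K) t, ← hspec, ← hst]
        ring
      have hpow : ∀ (n : ℕ) {c : A}, c ∉ q → c * ϖ ^ n ∉ q := fun n c hc hmem =>
        (hq.mem_or_mem hmem).elim hc fun h' => hϖq (hq.mem_of_pow_mem n h')
      exact ⟨⟨s * ϖ ^ j, hpow j hs, t * ϖ ^ i, by linear_combination e⟩,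
        t * ϖ ^ i, hpow i ht, s * ϖ ^ j, by linear_combination (-1 : A) * e⟩
  obtain ⟨c, hc⟩ := Groth.RefRank.dvd_of_height_one (a := a') (b := b')
    (right_ne_zero_of_mul hb0) fun q hq hq1 => (key q hq hq1).1
  obtain ⟨d, hd⟩ := Groth.RefRank.dvd_of_height_one (a := b') (b := a')
    (right_ne_zero_of_mul ha0) fun q hq hq1 => (key q hq hq1).2
  have hcd : c * d = 1 := by
    refine mul_left_cancel₀ (right_ne_zero_of_mul hb0) ?_
    rw [← mul_assoc, ← hc, ← hd, mul_one]
  refine ⟨i, j, Units.mkOfMulEqOne c d hcd, ?_⟩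
  refine mul_left_cancel₀ (a := algebraMap A K b')
    (fun h0 => right_ne_zero_of_mul hb0 (hinj (h0.trans (map_zero _).symm))) ?_
  rw [← map_pow, ← map_pow, Units.val_mkOfMulEqOne, ← mul_assoc, ← map_mul, mul_comm b' (ϖ ^ i),
    hspec, hc]
  simp only [map_mul]
  ring

end Groth.VerticalTriv
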