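import Groth.Agent.VerticalTriv.Algebra
import Groth.Agent.PicAux.Hartogs
import Groth.Agent.PicAux.UnitAt
import Groth.Agent.PicAux.Pullback
import Groth.Agent.PicAux.GenLocal
import Groth.Agent.PicSmooth.GenCore
import Groth.Agent.Ega4Algebra2.SchemeFibre
import Mathlib.RingTheory.DedekindDomain.Dvr
import Mathlib.RingTheory.Ideal.KrullsHeightTheorem

/-!
# Invertible modules trivial over an open of the base and along a section
-/

set_option autoImplicit false
set_option linter.style.haveILetI false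
universe u

open CategoryTheory CategoryTheory.Limits AlgebraicGeometry Opposite TopologicalSpace IsLocalRing

noncomputable section

namespace Groth.VerticalTriv

open Groth.PicAux

variable {Z X : Scheme.{u}} [IsIntegral Z] [IsLocallyNoetherian Z]

omit [IsLocallyNoetherian Z] in
/-- The rational coefficients of a rational section give a generator where they are units. -/
theorem exists_gen_goodLocus {L : Z.Modules} {W : Z → Z.Opens} {ε : ∀ z, Γ(L, W z)}
    (hW : ∀ z, z ∈ W z) (hε : ∀ z, Gen L (W z) (ε z)) (h : Z → Z.functionField)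
    (hc : ∀ a b (d : Γ(Z, W a ⊓ W b)), res L inf_le_left (ε a) = d • res L inf_le_right (ε b) →
      ∀ hη : genericPoint Z ∈ W a ⊓ W b,
        h b = h a * Z.presheaf.germ (W a ⊓ W b) (genericPoint Z) hη d) :
    ∃ G : Z.Opens, (∀ z, z ∈ G ↔ IsUnitAt z (h z)) ∧
      (∀ a z, z ∈ W a → (IsUnitAt z (h z) ↔ IsUnitAt z (h a))) ∧ ∃ t : Γ(L, G), Gen L G t := by
  have hη : ∀ a, genericPoint Z ∈ W a := fun a => genericPoint_mem (hW a)
  have hd : ∀ a b, ∃ d : Γ(Z, W a ⊓ W b), IsUnit d ∧ res L inf_le_left (ε a) = d • res L inf_le_right (ε b) := by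
    intro a b
    obtain ⟨d, hd⟩ := ((hε b).res (inf_le_right : W a ⊓ W b ≤ W b)).exists_unit
      ((hε a).res (inf_le_left : W a ⊓ W b ≤ W a))
    exact ⟨d, d.isUnit, hd⟩
  choose d hdu hde using hd
  have hiff : ∀ a z, z ∈ W a → (IsUnitAt z (h z) ↔ IsUnitAt z (h a)) := by
    intro a z hz
    have hmem : z ∈ W a ⊓ W z := ⟨hz, hW z⟩
    haveI : Nonempty (W a ⊓ W z : Z.Opens) := ⟨⟨z, hmem⟩⟩
    have hu : IsUnitAt z (Z.germToFunctionField (W a ⊓ W z) (d a z)) := isUnitAt_germ hmem (hdu a z)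
    have e : h z = h a * Z.germToFunctionField (W a ⊓ W z) (d a z) := hc a z _ (hde a z) _
    refine ⟨fun hh => ?_, fun hh => e ▸ hh.mul hu⟩
    have := hh.mul hu.inv
    rwa [e, mul_assoc, mul_inv_cancel₀, mul_one] at this
    intro h0
    obtain ⟨v, hv, hv'⟩ := hu
    exact (hv.map (algebraMap (Z.presheaf.stalk z) Z.functionField)).ne_zero (hv'.trans h0)
  let G : Z.Opens := ⟨{z | IsUnitAt z (h z)}, isOpen_iff_mem_nhds.2 fun z hz =>
    Filter.mem_of_superset (((W z).isOpen.inter (isOpen_isUnitAt (h z))).mem_nhds ⟨hW z, hz⟩)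
      fun y hy => (hiff z y hy.1).2 hy.2⟩
  refine ⟨G, fun z => Iff.rfl, hiff, ?_⟩
  have hs : ∀ z : G, ∃ s : Γ(Z, W z.1 ⊓ G), IsUnit s ∧
      ∀ hm : genericPoint Z ∈ W z.1 ⊓ G, Z.presheaf.germ (W z.1 ⊓ G) (genericPoint Z) hm s = h z.1 := by
    intro z
    haveI : Nonempty (W z.1 ⊓ G : Z.Opens) := ⟨⟨z.1, hW z.1, z.2⟩⟩
    obtain ⟨s, hsu, hsg⟩ := exists_unit_section (V := W z.1 ⊓ G) (z := h z.1)
      fun y hy => (hiff z.1 y hy.1).1 hy.2
    exact ⟨s, hsu, fun _ => hsg⟩
  choose s hsu hsg using hs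
  let V : G → Z.Opens := fun z => W z.1 ⊓ G
  let t : ∀ z : G, Γ(L, V z) := fun z => s z • res L inf_le_left (ε z.1)
  have ht : ∀ z, Gen L (V z) (t z) := fun z => ((hε z.1).res _).smul_unit (hsu z)
  have hcov : G ≤ iSup V := fun z hz => Opens.mem_iSup.2 ⟨⟨z, hz⟩, hW z, hz⟩
  have hcompat : ∀ a b : G, res L (inf_le_left : V a ⊓ V b ≤ V a) (t a) =
      res L (inf_le_right : V a ⊓ V b ≤ V b) (t b) := by
    intro a b
    have hle : V a ⊓ V b ≤ W a.1 ⊓ W b.1 := inf_le_inf inf_le_left inf_le_left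
    simp only [t, res_smul, res_res]
    have e := congrArg (res L hle) (hde a.1 b.1)
    rw [res_smul, res_res, res_res] at e
    rw [e, ← mul_smul]
    congr 1
    have hmem : genericPoint Z ∈ V a ⊓ V b :=
      ⟨⟨hη _, genericPoint_mem a.2⟩, ⟨hη _, genericPoint_mem b.2⟩⟩
    refine germ_injective_of_isIntegral Z (genericPoint Z) hmem ?_
    simp only [map_mul, resX, TopCat.Presheaf.germ_res_apply]
    rw [hsg a, hsg b, hc a.1 b.1 _ (hde a.1 b.1) ⟨hη _, hη _⟩]
  obtain ⟨T, hT, -⟩ := res_glue (M := L) V (fun _ => inf_le_right) hcov t hcompat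
  refine ⟨T, Gen.of_cover V (fun _ => inf_le_right) hcov fun a => ?_⟩
  rw [hT a]
  exact ht a

omit [IsLocallyNoetherian Z] in
/-- Rational functions that are units at a point are fractions with unit numerator and denominator. -/
theorem exists_frac_of_isUnitAt {w y : Z} (hy : y ⤳ w) {z : Z.functionField} (hz : IsUnitAt y z) :
    ∃ s t : Z.presheaf.stalk w, IsUnit (Z.presheaf.stalkSpecializes hy s) ∧
      IsUnit (Z.presheaf.stalkSpecializes hy t) ∧
      algebraMap _ Z.functionField s * z = algebraMap _ Z.functionField t := by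
  obtain ⟨c, hcu, rfl⟩ := hz
  obtain ⟨_, ⟨V, hV, rfl⟩, hwV, -⟩ :=
    Z.isBasis_affineOpens.exists_subset_of_mem_open (Set.mem_univ w) isOpen_univ
  have hyV : y ∈ V := hy.mem_open V.isOpen hwV
  let _ := TopCat.Presheaf.algebra_section_stalk Z.presheaf ⟨y, hyV⟩
  have := hV.isLocalization_stalk ⟨y, hyV⟩
  obtain ⟨⟨a, b⟩, hab⟩ := IsLocalization.surj (hV.primeIdealOf ⟨y, hyV⟩).asIdeal.primeCompl c
  have hbu : IsUnit (Z.presheaf.germ V y hyV b.1) :=
    IsLocalization.map_units (Z.presheaf.stalk y) b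
  have hau : IsUnit (Z.presheaf.germ V y hyV a) := by
    have := hcu.mul hbu
    rwa [show c * Z.presheaf.germ V y hyV b.1 = Z.presheaf.germ V y hyV a from hab] at this
  refine ⟨Z.presheaf.germ V w hwV b.1, Z.presheaf.germ V w hwV a, ?_, ?_, ?_⟩
  · erw [TopCat.Presheaf.germ_stalkSpecializes_apply]; exact hbu
  · erw [TopCat.Presheaf.germ_stalkSpecializes_apply]; exact hau
  · rw [← algebraMap_stalkSpecializes hy, ← algebraMap_stalkSpecializes hy (Z.presheaf.germ V w hwV a)]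
    erw [TopCat.Presheaf.germ_stalkSpecializes_apply, TopCat.Presheaf.germ_stalkSpecializes_apply]
    rw [← map_mul, mul_comm]
    exact congrArg _ hab

omit [IsLocallyNoetherian Z] [IsIntegral Z] in
theorem app_section {p : Z ⟶ X} {σ : X ⟶ Z} (hσ : σ ≫ p = 𝟙 X) (M : X.Opens) (a : Γ(X, M)) :
    σ.app (p ⁻¹ᵁ M) (p.app M a) =
      resX X (le_of_eq (by rw [← Scheme.Hom.comp_preimage, hσ]; rfl) : σ ⁻¹ᵁ (p ⁻¹ᵁ M) ≤ M) a := by
  have key : ∀ (m : X ⟶ X) (_ : m = 𝟙 X) (V : X.Opens) (e : V ≤ m ⁻¹ᵁ M) (e' : V ≤ M),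
      m.appLE M V e a = resX X e' a := by
    rintro m rfl V e e'
    simp [Scheme.Hom.appLE, resX]
    rfl
  refine Eq.trans ?_ (key (σ ≫ p) hσ _ (le_of_eq (by rw [Scheme.Hom.comp_preimage])) _)
  rw [← Scheme.Hom.appLE_comp_appLE σ p M (p ⁻¹ᵁ M) (σ ⁻¹ᵁ (p ⁻¹ᵁ M)) le_rfl le_rfl]
  simp [Scheme.Hom.app_eq_appLE]

variable [IsIntegral X] [IsLocallyNoetherian X]

/-- An invertible module trivial over a nonempty open of the base and along a section is trivial,
if total space and base are normal, the map is flat and its fibres are integral. -/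
theorem trivial_of_section
    (hN : ∀ z : Z, IsDomain (Z.presheaf.stalk z) ∧ IsIntegrallyClosed (Z.presheaf.stalk z))
    (hX : ∀ x : X, IsDomain (X.presheaf.stalk x) ∧ IsIntegrallyClosed (X.presheaf.stalk x))
    (p : Z ⟶ X) [Flat p] (hfib : ∀ x : X, IsIntegral (p.fiber x)) (σ : X ⟶ Z) (hσ : σ ≫ p = 𝟙 X)
    (U : X.Opens) (hU : genericPoint X ∈ U) (L : Z.Modules) (hL : PicF.IsInvertible L)
    (hUL : ∃ s₀ : Γ(L, p ⁻¹ᵁ U), Gen L (p ⁻¹ᵁ U) s₀)
    (hσL : Nonempty ((Scheme.Modules.pullback σ).obj L ≅ Coh.structureModule X)) :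
    Nonempty (L ≅ Coh.structureModule Z) := by
  classical
  have hps : ∀ x, p (σ x) = x := fun x => by rw [← Scheme.Hom.comp_apply, hσ]; rfl
  have hηZ : p (genericPoint Z) = genericPoint X := by
    refine Specializes.antisymm ?_ ((genericPoint_spec X).specializes trivial) |>.eq
    rw [← hps (genericPoint X)]
    exact ((genericPoint_spec Z).specializes trivial).map p.continuous
  obtain ⟨s₀, hs₀⟩ := hUL
  obtain ⟨τ, hτ⟩ := nonempty_iso_structure_iff.1 hσL
  -- normalise along the section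
  obtain ⟨s₁, hs₁, hs₁σ⟩ : ∃ s₁, Gen L (p ⁻¹ᵁ U) s₁ ∧
      pullSec σ L s₁ = res _ (le_top : σ ⁻¹ᵁ (p ⁻¹ᵁ U) ≤ ⊤) τ := by
    obtain ⟨f, hf⟩ := (hs₀.pull σ).exists_unit (hτ.res (le_top : σ ⁻¹ᵁ (p ⁻¹ᵁ U) ≤ ⊤))
    have hle : U ≤ σ ⁻¹ᵁ (p ⁻¹ᵁ U) := fun x hx => by show p (σ x) ∈ U; rw [hps]; exact hx
    refine ⟨p.app U (resX X hle f) • s₀, hs₀.smul_unit ((f.isUnit.map (resX X hle)).map (p.app U).hom), ?_⟩
    rw [pullSec_smul, app_section hσ, resX_resX, resX_self, hf]
  obtain ⟨W, ε, -, hW, hε⟩ := exists_gen_cover hL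
  have hη : ∀ a, genericPoint Z ∈ W a ⊓ p ⁻¹ᵁ U := fun a =>
    ⟨genericPoint_mem (hW a), show p (genericPoint Z) ∈ U by rw [hηZ]; exact hU⟩
  choose c hcoeff using fun a =>
    (hε a).exists_coeff (inf_le_left : W a ⊓ p ⁻¹ᵁ U ≤ W a) (res L inf_le_right s₁)
  let h : Z → Z.functionField := fun a => Z.presheaf.germ (W a ⊓ p ⁻¹ᵁ U) (genericPoint Z) (hη a) (c a)
  obtain ⟨G, hG, hiff, t, ht⟩ := exists_gen_goodLocus hW hε h fun a b d hd hm => by
    have h₁ : W a ⊓ W b ⊓ p ⁻¹ᵁ U ≤ W a ⊓ p ⁻¹ᵁ U := inf_le_inf_right _ inf_le_left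
    have h₂ : W a ⊓ W b ⊓ p ⁻¹ᵁ U ≤ W b ⊓ p ⁻¹ᵁ U := inf_le_inf_right _ inf_le_right
    have ea := congrArg (res L h₁) (hcoeff a)
    have eb := congrArg (res L h₂) (hcoeff b)
    have ed := congrArg (res L (inf_le_left : W a ⊓ W b ⊓ p ⁻¹ᵁ U ≤ W a ⊓ W b)) hd
    simp only [res_smul, res_res] at ea eb ed
    rw [ed, ← mul_smul] at ea
    have e := (hε b).smul_inj (inf_le_left.trans inf_le_right) (eb.symm.trans ea)
    have e' := congrArg (Z.presheaf.germ _ (genericPoint Z)
      (show genericPoint Z ∈ W a ⊓ W b ⊓ p ⁻¹ᵁ U from ⟨hm, (hη a).2⟩)) e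
    simp only [map_mul, resX, TopCat.Presheaf.germ_res_apply] at e'
    exact e'
  have hO : ∀ y, p y ∈ U → y ∈ G := fun y hy => by
    rw [hG]
    haveI : Nonempty (W y ⊓ p ⁻¹ᵁ U : Z.Opens) := ⟨⟨y, hW y, hy⟩⟩
    exact isUnitAt_germ (V := W y ⊓ p ⁻¹ᵁ U) ⟨hW y, hy⟩
      (((hε y).res inf_le_left).isUnit_of_smul ((hcoeff y) ▸ hs₁.res inf_le_right))
  -- the points of the section over codimension one
  have hsec : ∀ w : Z, σ (p w) = w → p w ∉ U → ringKrullDim (X.presheaf.stalk (p w)) ≤ 1 → w ∈ G := by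
    intro w hw hwU hdim
    have := (hX (p w)).1
    have := (hX (p w)).2
    have := (hN w).1
    have := (hN w).2
    let R := X.presheaf.stalk (p w)
    let A := Z.presheaf.stalk w
    have hηx : genericPoint X ⤳ p w := (genericPoint_spec X).specializes trivial
    obtain ⟨r, hr⟩ : genericPoint X ∈ Set.range (X.fromSpecStalk (p w)) := by
      rw [Scheme.range_fromSpecStalk]; exact hηx
    have hnf : ¬ IsField R := fun hF => hwU (by
      have : r = closedPoint R := PrimeSpectrum.ext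
        (le_antisymm (IsLocalRing.le_maximalIdeal r.isPrime.ne_top)
          ((isField_iff_maximalIdeal_eq.1 hF).trans_le bot_le))
      rw [this, Scheme.fromSpecStalk_closedPoint] at hr
      rw [hr]; exact hU)
    have : Ring.KrullDimLE 1 R := Ring.krullDimLE_iff.2 hdim
    have : Ring.DimensionLEOne R :=
      ⟨fun {P} hP hP' => Ring.krullDimLE_one_iff_of_noZeroDivisors.1 ‹_› P hP hP'⟩
    have : IsDedekindDomain R := { }
    have : IsPrincipalIdealRing R := IsPrincipalIdealRing.of_finite_maximals (Set.Finite.subset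
      (Set.finite_singleton (IsLocalRing.maximalIdeal R)) fun m hm => IsLocalRing.eq_maximalIdeal hm)
    have : IsDiscreteValuationRing R :=
      { not_a_field' := fun h0 => hnf (isField_iff_maximalIdeal_eq.2 h0) }
    obtain ⟨ϖ, hϖ⟩ := IsDiscreteValuationRing.exists_irreducible R
    let ψ := (p.stalkMap w).hom
    let _ := ψ.toAlgebra
    have : Module.Flat R A := Flat.stalkMap p w
    have hϖA : Prime (ψ ϖ) := by
      have hreg : IsSMulRegular A (algebraMap R A ϖ) :=
        IsSMulRegular.of_flat (IsRegular.of_ne_zero hϖ.ne_zero).left.isSMulRegular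
      have hne : ψ ϖ ≠ 0 := fun h0 => one_ne_zero (α := A) (hreg (show ψ ϖ * (1 : A) = ψ ϖ * 0 by rw [h0]; simp))
      rw [← Ideal.span_singleton_prime hne]
      obtain ⟨e⟩ := Groth.Ega4b.nonempty_fiberStalk_equiv p w
      have := hfib (p w)
      have : IsDomain (A ⧸ (maximalIdeal R).map ψ) := e.toMulEquiv.isDomain
      have := (Ideal.Quotient.isDomain_iff_prime _).1 this
      rwa [hϖ.maximalIdeal_eq, Ideal.map_span, Set.image_singleton] at this
    have hz : h w ≠ 0 := by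
      obtain ⟨a, ha, ha'⟩ := (hiff w _ (genericPoint_mem (hW w))).1
        ((hG _).1 (hO (genericPoint Z) (hη w).2))
      exact ha' ▸ (ha.map (@algebraMap _ _ _ _ (stalkFunctionFieldAlgebra Z (genericPoint Z)))).ne_zero
    obtain ⟨i, j, u, hu⟩ := exists_pow_mul_unit (K := Z.functionField) hϖA hz fun q hq _ hϖq => by
      let q' : Spec A := ⟨q, hq⟩
      let y := Z.fromSpecStalk w q'
      have hy : y ⤳ w := Scheme.range_fromSpecStalk.le ⟨_, rfl⟩
      have hpy : p y = X.fromSpecStalk (p w) (PrimeSpectrum.comap ψ q') :=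
        (congrArg (fun m : Spec A ⟶ X => m q') (Scheme.SpecMap_stalkMap_fromSpecStalk p (x := w))).symm
      have hbot : (PrimeSpectrum.comap ψ q').asIdeal = ⊥ := by
        by_contra hne
        have := eq_maximalIdeal ((PrimeSpectrum.comap ψ q').isPrime.isMaximal hne)
        refine hϖq (show ϖ ∈ (PrimeSpectrum.comap ψ q').asIdeal from ?_)
        rw [this, hϖ.maximalIdeal_eq]
        exact Ideal.mem_span_singleton_self ϖ
      have hspec : p y ⤳ genericPoint X := by
        rw [hpy, ← hr]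
        exact ((PrimeSpectrum.le_iff_specializes _ r).1 (show (PrimeSpectrum.comap ψ q').asIdeal ≤ r.asIdeal
          from hbot ▸ bot_le)).map (X.fromSpecStalk (p w)).continuous
      have hyU : p y ∈ U := hspec.mem_open U.isOpen hU
      obtain ⟨a, b, ha, hb, hab⟩ := exists_frac_of_isUnitAt hy
        ((hiff w y (hy.mem_open (W w).isOpen (hW w))).1 ((hG y).1 (hO y hyU)))
      exact ⟨a, b, (isUnit_stalkSpecializes_iff q' hy a).1 ha, (isUnit_stalkSpecializes_iff q' hy b).1 hb, hab⟩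
    -- compare along the section
    obtain ⟨M, hxM, ϖs, hϖs⟩ := X.presheaf.exists_germ_eq ϖ
    obtain ⟨N₀, hwN₀, us, hus⟩ := Z.presheaf.exists_germ_eq (u : A)
    let N := Z.basicOpen us
    have hN₀ : N ≤ N₀ := Z.basicOpen_le us
    have hwN : w ∈ N := (Scheme.mem_basicOpen Z us w hwN₀).2 (hus ▸ u.isUnit)
    let Bd := N ⊓ (W w ⊓ p ⁻¹ᵁ U) ⊓ p ⁻¹ᵁ M
    have hηM : genericPoint X ∈ M := hηx.mem_open M.isOpen hxM
    have hηB : genericPoint Z ∈ Bd :=
      ⟨⟨genericPoint_mem hwN, hη w⟩, show p (genericPoint Z) ∈ M by rw [hηZ]; exact hηM⟩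
    have hB₁ : Bd ≤ W w ⊓ p ⁻¹ᵁ U := inf_le_left.trans inf_le_right
    have hB₂ : Bd ≤ p ⁻¹ᵁ M := inf_le_right
    have hB₃ : Bd ≤ N₀ := (inf_le_left.trans inf_le_left).trans hN₀
    have eq1 : resX Z hB₂ (p.app M ϖs) ^ i * resX Z hB₁ (c w) =
        resX Z hB₂ (p.app M ϖs) ^ j * resX Z hB₃ us := by
      refine germ_injective_of_isIntegral Z (genericPoint Z) hηB ?_
      haveI : Nonempty (p ⁻¹ᵁ M : Z.Opens) := ⟨⟨w, hxM⟩⟩
      haveI : Nonempty N₀ := ⟨⟨w, hwN₀⟩⟩
      have e1 : Z.presheaf.germ (p ⁻¹ᵁ M) (genericPoint Z) (show p (genericPoint Z) ∈ M by rw [hηZ]; exact hηM)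
          (p.app M ϖs) = algebraMap A Z.functionField (ψ ϖ) := by
        rw [← hϖs]
        refine Eq.trans ?_ (congrArg _ (p.germ_stalkMap_apply M w hxM ϖs).symm)
        exact (Scheme.algebraMap_germ_eq_germToFunctionField Z (show w ∈ p ⁻¹ᵁ M from hxM) _).symm
      have e2 : Z.presheaf.germ N₀ (genericPoint Z) (genericPoint_mem hwN₀) us =
          algebraMap A Z.functionField u := by
        rw [← hus]
        exact (Scheme.algebraMap_germ_eq_germToFunctionField Z hwN₀ us).symm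
      simp only [map_mul, map_pow, resX, TopCat.Presheaf.germ_res_apply]
      rw [e1, e2]
      exact hu
    let C := σ ⁻¹ᵁ Bd
    have hσB : σ (genericPoint X) ∈ Bd := by
      have hsp : σ (genericPoint X) ⤳ w := hw ▸ hηx.map σ.continuous
      refine ⟨⟨hsp.mem_open N.isOpen hwN, hsp.mem_open (W w).isOpen (hW w), ?_⟩, ?_⟩
      · show p (σ (genericPoint X)) ∈ U; rw [hps]; exact hU
      · show p (σ (genericPoint X)) ∈ M; rw [hps]; exact hηM
    obtain ⟨r₀, hr₀⟩ := ((hε w).pull σ).exists_unit (hτ.res (le_top : σ ⁻¹ᵁ W w ≤ ⊤))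
    have hc1 : σ.app _ (c w) = resX X (σ.preimage_mono inf_le_left) (r₀ : Γ(X, σ ⁻¹ᵁ W w)) := by
      refine ((hε w).pull σ).smul_inj (σ.preimage_mono (inf_le_left : W w ⊓ p ⁻¹ᵁ U ≤ W w)) ?_
      have e := congrArg (pullSec σ L) (hcoeff w)
      rw [pullSec_smul, ← res_pullSec, ← res_pullSec, hs₁σ, res_res] at e
      have e' := congrArg (res ((Scheme.Modules.pullback σ).obj L)
        (σ.preimage_mono (inf_le_left : W w ⊓ p ⁻¹ᵁ U ≤ W w))) hr₀
      rw [res_smul, res_res] at e'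
      exact e.symm.trans e'
    have eq2 := congrArg (σ.app Bd) eq1
    have happ : ∀ {V : Z.Opens} (hV : Bd ≤ V) (a : Γ(Z, V)),
        σ.app Bd (resX Z hV a) = resX X (σ.preimage_mono hV) (σ.app V a) := fun hV a =>
      congr(($(σ.naturality (homOfLE hV).op)).hom a)
    simp only [map_mul, map_pow, happ, hc1, app_section hσ, resX_resX] at eq2
    have hu' : IsUnit (σ.app N₀ us |> resX X (σ.preimage_mono hN₀)) := by
      have := (Z.toRingedSpace.isUnit_res_basicOpen us).map (σ.app N).hom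
      rw [← show σ.app N (resX Z hN₀ us) = resX X (σ.preimage_mono hN₀) (σ.app N₀ us) from
        congr(($(σ.naturality (homOfLE hN₀).op)).hom us)]
      exact this
    have hxC : genericPoint X ∈ C := hσB
    have hxW : p w ∈ σ ⁻¹ᵁ W w := show σ (p w) ∈ W w by rw [hw]; exact hW w
    have hxN : p w ∈ σ ⁻¹ᵁ N := show σ (p w) ∈ N by rw [hw]; exact hwN
    haveI : Nonempty M := ⟨⟨_, hxM⟩⟩
    haveI : Nonempty (σ ⁻¹ᵁ W w : X.Opens) := ⟨⟨_, hxW⟩⟩
    haveI : Nonempty (σ ⁻¹ᵁ N : X.Opens) := ⟨⟨_, hxN⟩⟩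
    have eq3 := congrArg (X.presheaf.germ C (genericPoint X) hxC) eq2
    simp only [map_mul, map_pow, resX, TopCat.Presheaf.germ_res_apply] at eq3
    let a := X.presheaf.germ _ (p w) hxW (r₀ : Γ(X, σ ⁻¹ᵁ W w))
    let b := X.presheaf.germ _ (p w) hxN (resX X (σ.preimage_mono hN₀) (σ.app N₀ us))
    have ha : IsUnit a := r₀.isUnit.map _
    have hb : IsUnit b := hu'.map _
    have eq4 : ϖ ^ i * a = ϖ ^ j * b := by
      refine IsFractionRing.injective R X.functionField ?_
      simp only [map_mul, map_pow, a, b, ← hϖs, resX, TopCat.Presheaf.germ_res_apply]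
      haveI : Nonempty (σ ⁻¹ᵁ N₀ : X.Opens) := ⟨⟨_, σ.preimage_mono hN₀ hxN⟩⟩
      erw [Scheme.algebraMap_germ_eq_germToFunctionField X hxM,
        Scheme.algebraMap_germ_eq_germToFunctionField X hxW,
        Scheme.algebraMap_germ_eq_germToFunctionField X (σ.preimage_mono hN₀ hxN)]
      exact eq3
    have hij : i = j := Groth.PicSmooth.pow_eq_of_unit_mul
      (IsRegular.of_ne_zero hϖ.ne_zero).left.isSMulRegular hϖ.not_isUnit
      (v := b * ↑ha.unit⁻¹) (hb.mul (Units.isUnit _))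
      (by rw [← mul_assoc, ← eq4, mul_assoc, IsUnit.mul_val_inv, mul_one])
    subst hij
    rw [hG]
    refine ⟨u, u.isUnit, (mul_left_cancel₀ (pow_ne_zero _ fun h0 => ?_) hu).symm⟩
    exact hϖA.ne_zero (IsFractionRing.injective A Z.functionField (h0.trans (map_zero _).symm))
  -- codimension one
  have hcodim : ∀ y : Z, ringKrullDim (Z.presheaf.stalk y) ≤ 1 → y ∈ G := by
    intro y hy
    by_cases hyU : p y ∈ U
    · exact hO y hyU
    have hdim : ringKrullDim (X.presheaf.stalk (p y)) ≤ 1 := by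
      let _ := (p.stalkMap y).hom.toAlgebra
      have : Module.Flat (X.presheaf.stalk (p y)) (Z.presheaf.stalk y) := Flat.stalkMap p y
      have : (maximalIdeal (Z.presheaf.stalk y)).LiesOver (maximalIdeal (X.presheaf.stalk (p y))) :=
        ⟨(((IsLocalRing.local_hom_TFAE (p.stalkMap y).hom).out 0 4 :).1 inferInstance).symm⟩
      refine le_trans ?_ hy
      rw [← maximalIdeal_height_eq_ringKrullDim, ← maximalIdeal_height_eq_ringKrullDim,
        Ideal.height_eq_height_add_of_liesOver_of_hasGoingDown (maximalIdeal (X.presheaf.stalk (p y)))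
          (maximalIdeal (Z.presheaf.stalk y))]
      exact WithBot.coe_le_coe.2 le_self_add
    have hwG : σ (p y) ∈ G := hsec _ (by rw [hps]) (by rw [hps]; exact hyU) (by rw [hps]; exact hdim)
    haveI := hfib (p y)
    let γ := p.fiberι (p y) (genericPoint (p.fiber (p y)))
    have hγ : ∀ v : Z, p v = p y → γ ⤳ v := fun v hv => by
      obtain ⟨v', rfl⟩ : v ∈ Set.range (p.fiberι (p y)) := by rw [p.range_fiberι]; exact hv
      exact ((genericPoint_spec _).specializes trivial).map (p.fiberι (p y)).continuous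
    have hγG : γ ∈ G := (hγ _ (hps (p y))).mem_open G.isOpen hwG
    obtain ⟨q, hq⟩ : γ ∈ Set.range (Z.fromSpecStalk y) := by
      rw [Scheme.range_fromSpecStalk]; exact hγ y rfl
    have := (hN y).1
    have : Ring.KrullDimLE 1 (Z.presheaf.stalk y) := Ring.krullDimLE_iff.2 hy
    by_cases hq0 : q.asIdeal = ⊥
    · obtain ⟨q₁, hq₁⟩ : genericPoint Z ∈ Set.range (Z.fromSpecStalk y) := by
        rw [Scheme.range_fromSpecStalk]; exact (genericPoint_spec Z).specializes trivial
      have h1 : γ ⤳ genericPoint Z := by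
        rw [← hq, ← hq₁]
        exact ((PrimeSpectrum.le_iff_specializes q q₁).1 (show q.asIdeal ≤ q₁.asIdeal from hq0 ▸ bot_le)).map
          (Z.fromSpecStalk y).continuous
      refine absurd ?_ hyU
      have : p γ = p y := (p.range_fiberι (p y)).le ⟨_, rfl⟩
      rw [← this]
      refine (h1.map p.continuous).mem_open U.isOpen ?_
      rw [hηZ]; exact hU
    · have : q = closedPoint _ := PrimeSpectrum.ext (eq_maximalIdeal
        (Ring.krullDimLE_one_iff_of_noZeroDivisors.1 ‹_› q.asIdeal hq0 q.isPrime))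
      rw [this, Scheme.fromSpecStalk_closedPoint] at hq
      rw [hq]; exact hγG
  have hfun : FunBij G.ι := funBij_of_two_le_dim hN fun y hy => by
    by_contra hlt
    refine hy (hcodim y ?_)
    revert hlt
    generalize ringKrullDim (Z.presheaf.stalk y) = d
    induction d with
    | bot => simp
    | coe d =>
      intro hlt
      have h2 : d < (1 + 1 : ℕ∞) := WithBot.coe_lt_coe.1 ((not_le.1 hlt).trans_eq (by norm_num))
      exact WithBot.coe_le_coe.2 ((ENat.lt_add_one_iff ENat.one_ne_top).1 h2)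
  exact nonempty_iso_of_secBij hfun (secBij_of_isInvertible hfun hL)
    ((nonempty_restrict_iso_iff G).2 ⟨t, ht⟩)

end Groth.VerticalTriv
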